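import Groth.Agent.SiteCohomology.PushTotallyAcyclic
import Groth.Agent.SiteCohomology.ModulesGrothendieck
import Mathlib.Algebra.Category.ModuleCat.Presheaf.Free
import Mathlib.Algebra.Category.ModuleCat.Presheaf.Sheafification
import Mathlib.CategoryTheory.Adjunction.Restrict

/-!
# Injective sheaves of modules are totally acyclic

The free sheaf of modules on the Čech nerve of an epimorphism of sheaves of sets is a resolution.
-/

set_option autoImplicit false
universe u

open CategoryTheory Limits Opposite Simplicial AlgebraicTopology
open Groth.SiteCohomology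

set_option synthInstance.maxHeartbeats 400000
set_option maxHeartbeats 4000000

namespace Groth.Misc7.SitePush

/-- A faithful exact functor detects augmented resolutions. -/
lemma isAugResolution_of_map {A B : Type*} [Category A] [Abelian A] [Category B] [Abelian B]
    (G : A ⥤ B) [G.Additive] [G.Faithful] [PreservesFiniteLimits G] [PreservesFiniteColimits G]
    (X : SimplicialObject.Augmented A)
    (h : IsAugResolution (((SimplicialObject.Augmented.whiskering A B).obj G).obj X)) :
    IsAugResolution X := by
  have hhom : ((((SimplicialObject.Augmented.whiskering A B).obj G).obj X).hom.app (op ⦋0⦌)) =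
      G.map (X.hom.app (op ⦋0⦌)) := Category.comp_id _
  have hd := fun n => map_objD G X.left n
  refine { epi := ?_, zero₀ := objD_comp_ε _, exact₀ := ?_,
           zero := fun n => AlternatingFaceMapComplex.d_squared _ n, exact := fun n => ?_ }
  · have : Epi (G.map (X.hom.app (op ⦋0⦌))) := hhom ▸ h.epi
    exact G.epi_of_epi_map this
  · exact (ShortComplex.exact_map_iff_of_faithful _ G).1
      (exact_mk_of_eq (hd 0) hhom.symm _ h.exact₀)
  · exact (ShortComplex.exact_map_iff_of_faithful _ G).1
      (exact_mk_of_eq (hd (n + 1)) (hd n) _ (h.exact n))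

variable {C : Type u} [SmallCategory C] {J : GrothendieckTopology C} (R : Sheaf J RingCat.{u})

/-- The free sheaf of modules on a presheaf of sets. -/
noncomputable def freeModSh : (Cᵒᵖ ⥤ Type u) ⥤ SheafOfModules.{u} R :=
  PresheafOfModules.free R.obj ⋙ PresheafOfModules.sheafification (𝟙 R.obj)

/-- Free sheaves of modules are left adjoint to forgetting. -/
noncomputable def freeModShAdj : freeModSh R ⊣
    (SheafOfModules.forget R ⋙ PresheafOfModules.restrictScalars (𝟙 R.obj)) ⋙
      PresheafOfModules.toPresheaf R.obj ⋙ (Functor.whiskeringRight _ _ _).obj (forget Ab) :=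
  (PresheafOfModules.freeAdjunction R.obj).comp (PresheafOfModules.sheafificationAdjunction (𝟙 R.obj))

/-- The free sheaf of modules on a sheaf of sets. -/
noncomputable abbrev freeModT : Sheaf J (Type u) ⥤ SheafOfModules.{u} R :=
  sheafToPresheaf J (Type u) ⋙ freeModSh R

/-- Free modules on sheaves of sets are left adjoint to forgetting. -/
noncomputable def freeModTAdj : freeModT R ⊣
    SheafOfModules.toSheaf R ⋙ sheafCompose J (forget AddCommGrpCat.{u}) :=
  (freeModShAdj R).restrictFullyFaithful (fullyFaithfulSheafToPresheaf J (Type u))
    (Functor.FullyFaithful.id _) (Iso.refl _) (NatIso.ofComponents fun M => Iso.refl _)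

/-- Free sheaves of modules invert local isomorphisms. -/
lemma isIso_freeModSh_map_of_W {P Q : Cᵒᵖ ⥤ Type u} (f : P ⟶ Q) (hf : J.W f) :
    IsIso ((freeModSh R).map f) := by
  rw [isIso_iff_coyoneda_map_bijective]
  intro G
  have hG : Presheaf.IsSheaf J (((SheafOfModules.toSheaf R).obj G).obj ⋙ forget AddCommGrpCat.{u}) :=
    GrothendieckTopology.HasSheafCompose.isSheaf _ ((SheafOfModules.toSheaf R).obj G).2
  have key : (fun x => (freeModSh R).map f ≫ x) =
      ((freeModShAdj R).homEquiv P G).symm ∘ (fun y => f ≫ y) ∘ ((freeModShAdj R).homEquiv Q G) := by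
    funext x
    simp only [Function.comp_apply, Adjunction.homEquiv_naturality_left_symm,
      Equiv.symm_apply_apply]
  rw [key]
  exact (Equiv.bijective _).comp ((hf _ hG).comp (Equiv.bijective _))

/-- The free sheaves of modules on a simplicial presheaf of Čech type with locally surjective
augmentation form a resolution. -/
theorem isAugResolution_freeModSh (X : SimplicialObject.Augmented (Cᵒᵖ ⥤ Type u))
    (hX : IsCechTypePresheaf X) [Presheaf.IsLocallySurjective J (X.hom.app (op ⦋0⦌))] :
    IsAugResolution (((SimplicialObject.Augmented.whiskering _ _).obj (freeModSh R)).obj X) := by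
  let Y := imageAug X
  let free := PresheafOfModules.free R.obj
  have hY : IsAugResolution (((SimplicialObject.Augmented.whiskering _ _).obj free).obj Y) := by
    refine isAugResolution_of_map (PresheafOfModules.toPresheaf R.obj) _ ?_
    refine isAugResolution_of_evaluation _ fun c => ?_
    have hY0 : ((evalAug c).obj Y).hom.app (op ⦋0⦌) =
        (Subfunctor.toRange (X.hom.app (op ⦋0⦌))).app c := by
      rw [← imageAug_hom_zero]
      exact Category.comp_id _
    have hX0 : ((evalAug c).obj X).hom.app (op ⦋0⦌) = (X.hom.app (op ⦋0⦌)).app c :=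
      Category.comp_id _
    have hsur : Function.Surjective (((evalAug c).obj Y).hom.app (op ⦋0⦌)) := by
      rw [hY0]
      rintro ⟨b, a, ha⟩
      exact ⟨a, Subtype.ext ha⟩
    have hT : IsCechType ((evalAug c).obj Y) :=
      { ext := (hX c).ext
        lift := fun n t ht => (hX c).lift n t fun i j => by
          have h := ht i j
          rw [hY0] at h
          rw [hX0]
          exact congrArg Subtype.val h }
    obtain ⟨ed⟩ := hT.nonempty_extraDegeneracy hsur
    have h0 : IsAugResolution (((SimplicialObject.Augmented.whiskering _ _).obj
        (free ⋙ PresheafOfModules.toPresheaf R.obj ⋙ (evaluation Cᵒᵖ Ab).obj c)).obj Y) :=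
      IsAugResolution.whisker_comp ((evaluation Cᵒᵖ (Type u)).obj c)
        (ModuleCat.free (R.obj.obj c) ⋙ forget₂ (ModuleCat (R.obj.obj c)) Ab)
        (NatIso.ofComponents (fun P => Iso.refl _))
        (isAugResolution_of_extraDegeneracy
          (ed.map (ModuleCat.free (R.obj.obj c) ⋙ forget₂ (ModuleCat (R.obj.obj c)) Ab)))
    let e : ((SimplicialObject.Augmented.whiskering _ _).obj
        (free ⋙ PresheafOfModules.toPresheaf R.obj ⋙ (evaluation Cᵒᵖ Ab).obj c)).obj Y ⟶
        (evalAug c).obj (((SimplicialObject.Augmented.whiskering _ _).obj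
          (PresheafOfModules.toPresheaf R.obj)).obj
            (((SimplicialObject.Augmented.whiskering _ _).obj free).obj Y)) :=
      { left := 𝟙 _
        right := 𝟙 _
        w := by
          apply NatTrans.ext
          funext n
          refine (Category.id_comp _).trans (Eq.trans ?_ (Category.comp_id _).symm)
          simp
          rfl }
    have h1 : IsIso e.left := by change IsIso (𝟙 _); infer_instance
    have h2 : IsIso e.right := by change IsIso (𝟙 _); infer_instance
    exact @IsAugResolution.congr_point _ _ _ _ _ h0 e h1 h2
  have : (PresheafOfModules.sheafification (𝟙 R.obj)).Additive :=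
    (PresheafOfModules.sheafificationAdjunction (𝟙 R.obj)).left_adjoint_additive
  have h2 := hY.map (PresheafOfModules.sheafification (𝟙 R.obj))
  have hι : IsIso ((freeModSh R).map (Subfunctor.range (X.hom.app (op ⦋0⦌))).ι) := by
    refine isIso_freeModSh_map_of_W R _ ?_
    have := Presheaf.isLocallySurjective_of_isLocallySurjective_fac J
      (Subfunctor.toRange_ι (X.hom.app (op ⦋0⦌)))
    have : Presheaf.IsLocallyInjective J (Subfunctor.range (X.hom.app (op ⦋0⦌))).ι :=
      Presheaf.isLocallyInjective_of_injective J _ fun _ => Subtype.val_injective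
    exact J.W_of_isLocallyBijective _
  let e := ((SimplicialObject.Augmented.whiskering _ _).obj (freeModSh R)).map (imageAugHom X)
  have : IsIso e.left := inferInstanceAs (IsIso
    (((SimplicialObject.whiskering _ _).obj (freeModSh R)).map (𝟙 X.left)))
  have : IsIso e.right := hι
  exact @IsAugResolution.congr_point _ _ _ _ _ h2 e (by assumption) (by assumption)

/-- The free sheaves of modules on the Čech nerve of an epimorphism form a resolution. -/
theorem isAugResolution_freeModT {K' K : Sheaf J (Type u)} (f : K' ⟶ K) [Epi f] :
    IsAugResolution (((SimplicialObject.Augmented.whiskering _ _).obj (freeModT R)).obj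
      (Arrow.mk f).augmentedCechNerve) := by
  have := isLocallySurjective_cechNerve_hom J f
  exact IsAugResolution.whisker_comp (sheafToPresheaf J (Type u)) (freeModSh R) (Iso.refl _)
    (isAugResolution_freeModSh R
      (((SimplicialObject.Augmented.whiskering _ _).obj (sheafToPresheaf J (Type u))).obj
        (Arrow.mk f).augmentedCechNerve)
      fun c => isCechType_map (Arrow.mk f) (sheafToPresheaf J (Type u) ⋙ (evaluation _ _).obj c))

/-- The abelian sheaf underlying an injective sheaf of modules is totally acyclic. -/
theorem isTotallyAcyclic_toSheaf (I : SheafOfModules.{u} R) [Injective I] :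
    CohCx.IsTotallyAcyclic ((SheafOfModules.toSheaf R).obj I) := by
  refine isTotallyAcyclic_of_cech _ fun K' K f hf q => ?_
  obtain ⟨e⟩ := nonempty_yonedaCofaceCx_homology_equiv (T := freeModT R) I
    (isAugResolution_freeModT R f) (q + 1)
    (fun n i _ => Abelian.Ext.subsingleton_of_injective _ _ i)
  have : Subsingleton (Abelian.Ext ((freeModT R).obj K) I (q + 1)) :=
    Abelian.Ext.subsingleton_of_injective _ _ q
  have := @Equiv.subsingleton _ _ e.toEquiv this
  exact (@AddCommGrpCat.isZero_of_subsingleton _ this).of_iso
    ((HomologicalComplex.homologyFunctor _ _ (q + 1)).mapIso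
      ((alternatingCofaceMapComplex AddCommGrpCat.{u}).mapIso
        (Functor.isoWhiskerLeft (Arrow.mk f).cechNerve.rightOp
          (asIso (transferHom (freeModTAdj R) (freeTAdj J) (SheafOfModules.toSheaf R)
            (Iso.refl _) I))))).symm

end Groth.Misc7.SitePush
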