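import Groth.Agent.SiteCohomology.TotallyAcyclic
import Groth.Prelude.Def_CohSite
import Mathlib.CategoryTheory.Sites.Adjunction

/-!
# Direct images of totally acyclic abelian sheaves along morphisms of topoi
-/

set_option autoImplicit false
universe u

open CategoryTheory Limits Opposite Simplicial AlgebraicTopology
open Groth.SiteCohomology

set_option synthInstance.maxHeartbeats 400000
set_option maxHeartbeats 4000000

namespace Groth.Misc7.SitePush

variable {C D : Type u} [SmallCategory C] [SmallCategory D]
  (J : GrothendieckTopology C) (K : GrothendieckTopology D) (u' : D ⥤ C) [u'.IsContinuous K J]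

/-- Pulling back free abelian sheaves gives free abelian sheaves. -/
noncomputable def freeTPullIso :
    freeT K ⋙ u'.sheafPullback AddCommGrpCat.{u} K J ≅ u'.sheafPullback (Type u) K J ⋙ freeT J :=
  Adjunction.leftAdjointUniq
    ((Sheaf.adjunction K AddCommGrpCat.adj).comp (u'.sheafAdjunctionContinuous AddCommGrpCat.{u} K J))
    (((u'.sheafAdjunctionContinuous (Type u) K J).comp (Sheaf.adjunction J AddCommGrpCat.adj)).ofNatIsoRight
      (NatIso.ofComponents (fun F => Iso.refl _) :
        sheafCompose J (forget AddCommGrpCat.{u}) ⋙ u'.sheafPushforwardContinuous (Type u) K J ≅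
          u'.sheafPushforwardContinuous AddCommGrpCat.{u} K J ⋙ sheafCompose K (forget AddCommGrpCat.{u})))

variable (F : Sheaf J AddCommGrpCat.{u})

/-- `H⁰(X, u_* F) = H⁰(u^* X, F)`, naturally in the sheaf of sets `X`. -/
noncomputable def hk0PushIso :
    CohCx.HK0Functor K ((CohSite.push J K u').obj F) ≅
      (u'.sheafPullback (Type u) K J).op ⋙ CohCx.HK0Functor J F :=
  haveI : (u'.sheafPullback AddCommGrpCat.{u} K J).Additive :=
    (u'.sheafAdjunctionContinuous AddCommGrpCat.{u} K J).left_adjoint_additive
  NatIso.ofComponents (fun X => AddEquiv.toAddCommGrpIso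
    (((u'.sheafAdjunctionContinuous AddCommGrpCat.{u} K J).homAddEquiv
        ((freeT K).obj X.unop) F).symm.trans
      { toFun := fun x => (freeTPullIso J K u').inv.app X.unop ≫ x
        invFun := fun x => (freeTPullIso J K u').hom.app X.unop ≫ x
        left_inv := fun x => by simp
        right_inv := fun x => by simp
        map_add' := fun x y => Preadditive.comp_add _ _ _ _ x y })) fun {X Y} g => by
    ext x
    change (freeTPullIso J K u').inv.app Y.unop ≫
        ((u'.sheafAdjunctionContinuous AddCommGrpCat.{u} K J).homEquiv _ F).symm ((freeT K).map g.unop ≫ x) =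
      (freeT J).map ((u'.sheafPullback (Type u) K J).map g.unop) ≫ (freeTPullIso J K u').inv.app X.unop ≫
        ((u'.sheafAdjunctionContinuous AddCommGrpCat.{u} K J).homEquiv _ F).symm x
    rw [Adjunction.homEquiv_naturality_left_symm]
    exact ((freeTPullIso J K u').inv.naturality_assoc g.unop _).symm

variable [PreservesFiniteLimits (u'.sheafPullback (Type u) K J)]

/-- The comparison of Čech nerves. -/
noncomputable def nerveHom {X' X : Sheaf K (Type u)} (f : X' ⟶ X) :
    (Arrow.mk f).cechNerve ⋙ u'.sheafPullback (Type u) K J ⟶
      (Arrow.mk ((u'.sheafPullback (Type u) K J).map f)).cechNerve where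
  app n := WidePullback.lift ((u'.sheafPullback (Type u) K J).map (WidePullback.base _))
    (fun i => (u'.sheafPullback (Type u) K J).map (WidePullback.π _ i)) fun i =>
      ((u'.sheafPullback (Type u) K J).map_comp _ _).symm.trans
        (congrArg _ (WidePullback.π_arrow _ i))
  naturality n m g := by
    apply WidePullback.hom_ext
    · intro i
      simp only [Functor.comp_map, Category.assoc, Arrow.cechNerve, WidePullback.lift_π, ← Functor.map_comp]
    · simp only [Functor.comp_map, Category.assoc, Arrow.cechNerve, WidePullback.lift_base, ← Functor.map_comp]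
      exact congrArg _ (WidePullback.lift_base ..)

lemma isIso_nerveHom {X' X : Sheaf K (Type u)} (f : X' ⟶ X) : IsIso (nerveHom J K u' f) := by
  have : ∀ n, IsIso ((nerveHom J K u' f).app n) := fun n => by
    let P := u'.sheafPullback (Type u) K J
    let W := WidePullbackShape.wideCospan X (fun _ : Fin (n.unop.len + 1) => X') fun _ => f
    have hl : IsLimit (P.mapCone (limit.cone W)) := isLimitOfPreserves P (limit.isLimit W)
    let s : Cone (W ⋙ P) :=
      { pt := widePullback.{0} (P.obj X) (fun _ : Fin (n.unop.len + 1) => P.obj X') fun _ => P.map f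
        π :=
          { app := fun j => match j with
              | none => WidePullback.base _
              | some i => WidePullback.π (fun _ => P.map f) i
            naturality := by
              intro j j' g
              cases g with
              | id j => simp
              | term i =>
                exact (Category.id_comp _).trans (WidePullback.π_arrow (fun _ => P.map f) i).symm } }
    refine ⟨hl.lift s, hl.hom_ext fun j => ?_, WidePullback.hom_ext _ _ _ (fun i => ?_) ?_⟩
    · rw [Category.assoc, hl.fac, Category.id_comp]
      cases j with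
      | none => exact WidePullback.lift_base ..
      | some i => exact WidePullback.lift_π ..
    · rw [Category.assoc, Category.id_comp]
      exact (congrArg (_ ≫ ·) (WidePullback.lift_π ..)).trans (hl.fac s (some i))
    · rw [Category.assoc, Category.id_comp]
      exact (congrArg (_ ≫ ·) (WidePullback.lift_base ..)).trans (hl.fac s none)
  exact NatIso.isIso_of_isIso_app _

/-- The Čech complexes agree. -/
noncomputable def cechPushIso {X' X : Sheaf K (Type u)} (f : X' ⟶ X) :
    CohCx.cechNerveCx ((CohSite.push J K u').obj F) f ≅
      CohCx.cechNerveCx F ((u'.sheafPullback (Type u) K J).map f) :=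
  haveI := isIso_nerveHom J K u' f
  (alternatingCofaceMapComplex AddCommGrpCat.{u}).mapIso
    (Functor.isoWhiskerLeft _ (hk0PushIso J K u' F) ≪≫
      NatIso.ofComponents (fun n => ((CohCx.HK0Functor J F).mapIso
        ((asIso ((nerveHom J K u' f).app (op n))).symm.op)))
      fun {n m} g => by
        change (CohCx.HK0Functor J F).map _ ≫ (CohCx.HK0Functor J F).map _ =
          (CohCx.HK0Functor J F).map _ ≫ (CohCx.HK0Functor J F).map _
        rw [← Functor.map_comp, ← Functor.map_comp]
        congr 1
        apply Quiver.Hom.unop_inj
        change inv _ ≫ _ = _ ≫ inv _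
        rw [IsIso.inv_comp_eq, ← Category.assoc, IsIso.eq_comp_inv]
        exact (nerveHom J K u' f).naturality g.op)

/-- Direct images of totally acyclic sheaves along morphisms of topoi are totally acyclic. -/
theorem isTotallyAcyclic_push (hF : CohCx.IsTotallyAcyclic F) :
    CohCx.IsTotallyAcyclic ((CohSite.push J K u').obj F) := by
  refine isTotallyAcyclic_of_cech _ fun X' X f hf q => ?_
  have : Epi ((u'.sheafPullback (Type u) K J).map f) :=
    haveI := (u'.sheafAdjunctionContinuous (Type u) K J).leftAdjoint_preservesColimits
    inferInstance
  exact (isZero_cechNerveCx_homology F hF ((u'.sheafPullback (Type u) K J).map f) q).of_iso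
    ((HomologicalComplex.homologyFunctor _ _ (q + 1)).mapIso (cechPushIso J K u' F f))

theorem isTotallyAcyclic_of_injective (I : Sheaf J AddCommGrpCat.{u}) [Injective I] :
    CohCx.IsTotallyAcyclic I := fun _ p => Abelian.Ext.subsingleton_of_injective _ _ p

end Groth.Misc7.SitePush
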